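import Cfsg.Agent.H396.K547.Rank
import Cfsg.Agent.H514.K547.Parity
import Cfsg.Agent.H514.K547.Quot

/-!
# S4547, `fg_quot_lt` (helper396)

If `N ∩ P` is not contained in the Frattini subgroup of the Sylow subgroup `P` then `G / N` has fewer good characters.
-/

set_option autoImplicit false

open scoped ComplexConjugate
open Cfsg Cfsg.Agent.Characters.Core Subgroup

namespace Cfsg.Agent.H396.K547

open Cfsg.Agent.H601.K4 Cfsg.Agent.H821.K547 Cfsg.Agent.H514.K547

universe u

variable {G : Type u} [Group G] [Finite G]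

theorem fg_quot_lt (P : Sylow 2 G) (N : Subgroup G) [N.Normal]
    (h : ¬ N ⊓ (P : Subgroup G) ≤ (frattini ↥P).map (P : Subgroup G).subtype) : fg (G ⧸ N) < fg G := by
  classical
  have := H618.Resid.fact_two
  obtain ⟨x, ⟨hxN, hxP⟩, hxΦ⟩ := SetLike.not_le_iff_exists.1 h
  have h1 : (⟨x, hxP⟩ : (P : Subgroup G)) ∉ KK (P : Subgroup G) := by
    rw [KK_eq_frattini P.isPGroup']
    intro h2
    exact hxΦ ⟨⟨x, hxP⟩, h2, rfl⟩
  rw [mem_KK] at h1
  push Not at h1
  obtain ⟨l, hl⟩ := h1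
  have hl' : l ⟨x, hxP⟩ = -1 := (Int.units_eq_one_or _).resolve_left hl
  obtain ⟨χ, hχ, -, m, hm, hmc⟩ := exists_good_over (P : Subgroup G) P.not_dvd_index (good_hom l) 1
    ⟨0, 1, fun y => by simp⟩ (fun y hy => hy) (fun y => rfl)
  have hF := Fintype.ofFinite (P : Subgroup G)
  have hin := hmc
  -- `χ` is not inflated
  have hnot : χ ∉ (fun (ψ : G ⧸ N → ℂ) (g : G) => ψ (QuotientGroup.mk' N g)) '' gs (G ⧸ N) := by
    rintro ⟨ψ, -, hψ⟩
    have hx : ∀ y : G, χ (x * y) = χ y := by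
      intro y
      rw [← hψ]
      show ψ (QuotientGroup.mk' N (x * y)) = ψ (QuotientGroup.mk' N y)
      have h2 : QuotientGroup.mk' N x = 1 := (QuotientGroup.eq_one_iff x).2 hxN
      rw [map_mul, h2, one_mul]
    have h3 : ∑ y : (P : Subgroup G), χ y * conj ((l y : ℤ) : ℂ) = 0 := by
      have h4 : ∑ y : (P : Subgroup G), χ y * conj ((l y : ℤ) : ℂ) =
          -∑ y : (P : Subgroup G), χ y * conj ((l y : ℤ) : ℂ) := by
        rw [← Finset.sum_neg_distrib, ← Equiv.sum_comp (Equiv.mulLeft (⟨x, hxP⟩ : (P : Subgroup G)))]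
        refine Finset.sum_congr rfl fun y _ => ?_
        rw [Equiv.coe_mulLeft, map_mul, hl']
        show χ (x * (y : G)) * _ = _
        rw [hx]
        simp
      exact self_eq_neg.1 h4
    have h5 : (m : ℂ) = 0 := by
      rw [← hmc, classInner_def, h3, mul_zero]
    have h6 : m = 0 := by exact_mod_cast h5
    rw [h6] at hm
    exact (by decide : ¬ Odd 0) hm
  have hsub : (fun (ψ : G ⧸ N → ℂ) (g : G) => ψ (QuotientGroup.mk' N g)) '' gs (G ⧸ N) ⊂ gs G := by
    refine (Set.ssubset_iff_of_subset ?_).2 ⟨χ, hχ, hnot⟩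
    rintro _ ⟨ψ, hψ, rfl⟩
    exact good_comp_surjective (QuotientGroup.mk' N) (QuotientGroup.mk'_surjective N) hψ
  have h2 := Set.ncard_lt_ncard hsub (gs_finite G)
  rwa [Set.ncard_image_of_injective _ (comp_injective _ (QuotientGroup.mk'_surjective N))] at h2

end Cfsg.Agent.H396.K547
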